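import Mathlib
import Groth.Prelude.Def_W4c1famcyclesFFR

/-!
The determinant of an endomorphism of a module with a finite free resolution.
-/

set_option backward.isDefEq.respectTransparency false

open Polynomial

namespace Groth.Agent.FamCycDet

universe u

/-- The characteristic polynomial is multiplicative in short exact sequences of free modules. -/
theorem charpoly_eq_mul {S : Type*} [CommRing S] {K F M : Type*} [AddCommGroup K] [Module S K]
    [AddCommGroup F] [Module S F] [AddCommGroup M] [Module S M]
    [Module.Free S K] [Module.Finite S K] [Module.Free S F] [Module.Finite S F]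
    [Module.Free S M] [Module.Finite S M]
    (i : K →ₗ[S] F) (g : F →ₗ[S] M) (hi : Function.Injective i) (hg : Function.Surjective g)
    (h : Function.Exact i g) (ψK : K →ₗ[S] K) (ψ : F →ₗ[S] F) (φ : M →ₗ[S] M)
    (h1 : ∀ x, ψ (i x) = i (ψK x)) (h2 : ∀ x, g (ψ x) = φ (g x)) :
    ψ.charpoly = ψK.charpoly * φ.charpoly := by
  classical
  obtain ⟨s, hs⟩ := Module.projective_lifting_property g LinearMap.id hg
  have hs' : ∀ m, g (s m) = m := fun m => LinearMap.congr_fun hs m
  let c : (K × M) →ₗ[S] F := i.coprod s
  have hgc : ∀ x, g (c x) = x.2 := fun x => by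
    show g (i x.1 + s x.2) = _
    rw [map_add, h.apply_apply_eq_zero, hs', zero_add]
  have hc : Function.Bijective c := by
    refine ⟨fun x y hxy => ?_, fun y => ?_⟩
    · have h2' : x.2 = y.2 := by rw [← hgc x, ← hgc y, hxy]
      refine Prod.ext (hi ?_) h2'
      change i x.1 + s x.2 = i y.1 + s y.2 at hxy
      rw [h2'] at hxy
      exact add_right_cancel hxy
    · obtain ⟨k, hk⟩ := (h (y - s (g y))).mp (by rw [map_sub, hs', sub_self])
      exact ⟨(k, g y), by show i k + s (g y) = y; rw [hk, sub_add_cancel]⟩
  let e := LinearEquiv.ofBijective c hc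
  rw [← LinearEquiv.charpoly_conj e.symm ψ]
  set ψ' := e.symm.conj ψ
  have hcψ : ∀ x, c (ψ' x) = ψ (c x) := fun x => e.apply_symm_apply (ψ (c x))
  have hl : ∀ k, ψ' (k, 0) = (ψK k, 0) := fun k => hc.1 (by
    rw [hcψ]
    show ψ (i k + s 0) = i (ψK k) + s 0
    rw [map_zero, add_zero, add_zero, h1])
  have hr : ∀ m, (ψ' (0, m)).2 = φ m := fun m => by
    rw [← hgc, hcψ, h2, hgc]
  let bK := Module.Free.chooseBasis S K
  let bM := Module.Free.chooseBasis S M
  have hm : LinearMap.toMatrix (bK.prod bM) (bK.prod bM) ψ' =
      Matrix.fromBlocks (LinearMap.toMatrix bK bK ψK)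
        (Matrix.of fun a b => bK.repr (ψ' (0, bM b)).1 a) 0 (LinearMap.toMatrix bM bM φ) := by
    ext a b
    rcases a with a | a <;> rcases b with b | b <;>
      simp [LinearMap.toMatrix_apply, Module.Basis.prod_apply, hl, hr]
  rw [← LinearMap.charpoly_toMatrix ψ' (bK.prod bM), hm, Matrix.charpoly_fromBlocks_zero₂₁,
    LinearMap.charpoly_toMatrix, LinearMap.charpoly_toMatrix]

variable (A : Type u) [CommRing A]

/-- Finite free resolutions force finiteness. -/
theorem finite_of_hasRes : ∀ (n : ℕ) (M : Type u) [AddCommGroup M] [Module A M],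
    FamCyc.HasFiniteFreeResolutionLE A n M → Module.Finite A M
  | 0, _, _, _, h => h.2
  | _ + 1, _, _, _, ⟨_, f, hf, _⟩ => Module.Finite.of_surjective f hf

/-- A pair of monic polynomials whose quotient is the characteristic polynomial at all free primes. -/
theorem exists_pair : ∀ (n : ℕ) (M : Type u) [AddCommGroup M] [Module A M],
    FamCyc.HasFiniteFreeResolutionLE A n M → ∀ φ : M →ₗ[A] M,
    ∃ N D : A[X], N.Monic ∧ D.Monic ∧ ∀ (p : Ideal A) [p.IsPrime]
      [Module.Free (Localization.AtPrime p) (LocalizedModule p.primeCompl M)]
      [Module.Finite (Localization.AtPrime p) (LocalizedModule p.primeCompl M)],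
        N.map (algebraMap A (Localization.AtPrime p)) =
          D.map (algebraMap A (Localization.AtPrime p)) * (LocalizedModule.map p.primeCompl φ).charpoly
  | 0, M, _, _, hM, φ => by
    haveI := hM.1
    haveI := hM.2
    refine ⟨φ.charpoly, 1, φ.charpoly_monic, monic_one, fun p _ _ _ => ?_⟩
    rw [Polynomial.map_one, one_mul, ← LinearMap.charpoly_baseChange,
      ← LinearEquiv.charpoly_conj (LocalizedModule.equivTensorProduct p.primeCompl M).symm]
    congr 1
    apply IsLocalizedModule.linearMap_ext p.primeCompl (LocalizedModule.mkLinearMap p.primeCompl M)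
      (LocalizedModule.mkLinearMap p.primeCompl M) |> fun h => LinearMap.restrictScalars_injective A (h ?_)
    ext x
    simp
  | n + 1, M, _, _, hM, φ => by
    obtain ⟨k, f, hf, hK⟩ := hM
    obtain ⟨ψ, hψ⟩ := Module.projective_lifting_property f (φ ∘ₗ f) hf
    have hψ' : ∀ x, f (ψ x) = φ (f x) := fun x => LinearMap.congr_fun hψ x
    let ψK : LinearMap.ker f →ₗ[A] LinearMap.ker f := ψ.restrict (fun x hx => by
      rw [LinearMap.mem_ker, hψ', LinearMap.mem_ker.mp hx, map_zero])
    obtain ⟨N', D', hN', hD', h'⟩ := exists_pair n _ hK ψK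
    haveI := finite_of_hasRes A n _ hK
    refine ⟨D' * ψ.charpoly, N', hD'.mul ψ.charpoly_monic, hN', fun p _ _ _ => ?_⟩
    let S := p.primeCompl
    have hinj : Function.Injective (LocalizedModule.map S (LinearMap.ker f).subtype) :=
      LocalizedModule.map_injective S _ (Submodule.injective_subtype _)
    have hsurj : Function.Surjective (LocalizedModule.map S f) := LocalizedModule.map_surjective S _ hf
    have hex : Function.Exact (LocalizedModule.map S (LinearMap.ker f).subtype) (LocalizedModule.map S f) :=
      LocalizedModule.map_exact S _ _ (LinearMap.exact_subtype_ker_map f)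
    haveI : Module.Free (Localization.AtPrime p) (LocalizedModule S (Fin k → A)) :=
      Module.Free.of_equiv (LocalizedModule.equivTensorProduct S (Fin k → A)).symm
    haveI : Module.Finite (Localization.AtPrime p) (LocalizedModule S (Fin k → A)) :=
      Module.Finite.equiv (LocalizedModule.equivTensorProduct S (Fin k → A)).symm
    haveI : Module.Finite (Localization.AtPrime p) (LocalizedModule S (LinearMap.ker f)) :=
      Module.Finite.equiv (LocalizedModule.equivTensorProduct S (LinearMap.ker f)).symm
    haveI : Module.Free (Localization.AtPrime p) (LocalizedModule S (LinearMap.ker f)) := by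
      obtain ⟨s, hs⟩ := Module.projective_lifting_property _ LinearMap.id hsurj
      haveI : Module.Projective (Localization.AtPrime p) (LocalizedModule S (LinearMap.ker f)) := by
        obtain ⟨l, hl⟩ := ((Function.Exact.split_tfae (R := Localization.AtPrime p)
          (M := LocalizedModule S (LinearMap.ker f)) (N := LocalizedModule S (Fin k → A))
          (P := LocalizedModule S M) hex hinj hsurj).out 0 1 rfl rfl).mp ⟨s, hs⟩
        exact Module.Projective.of_split _ l hl
      exact Module.free_of_flat_of_isLocalRing (R := Localization.AtPrime p) (P := LocalizedModule S (LinearMap.ker f))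
    have hcp := charpoly_eq_mul (S := Localization.AtPrime p) (K := LocalizedModule S (LinearMap.ker f))
      (F := LocalizedModule S (Fin k → A)) (M := LocalizedModule S M) (LocalizedModule.map S (LinearMap.ker f).subtype) (LocalizedModule.map S f)
      hinj hsurj hex (LocalizedModule.map S ψK) (LocalizedModule.map S ψ) (LocalizedModule.map S φ)
      (fun x => by
        induction x using LocalizedModule.induction_on with
        | h m s => simp [LocalizedModule.map_mk]; rfl)
      (fun x => by
        induction x using LocalizedModule.induction_on with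
        | h m s => simp [LocalizedModule.map_mk, hψ'])
    have hψp : (LocalizedModule.map S ψ).charpoly = ψ.charpoly.map (algebraMap A (Localization.AtPrime p)) := by
      rw [← LinearMap.charpoly_baseChange, ← LinearEquiv.charpoly_conj (LocalizedModule.equivTensorProduct S (Fin k → A))]
      congr 1
      apply TensorProduct.AlgebraTensorModule.ext
      intro a x
      obtain ⟨⟨r, t⟩, rfl⟩ : ∃ y : A × S, Localization.mk y.1 y.2 = a := by
        induction a using Localization.induction_on with
        | H y => exact ⟨y, rfl⟩
      rw [LinearEquiv.conj_apply, LinearMap.comp_apply, LinearMap.comp_apply, LinearEquiv.coe_coe,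
        LinearEquiv.coe_coe, LocalizedModule.equivTensorProduct_symm_apply_tmul, LinearMap.baseChange_tmul]
      rw [LinearMap.map_smul_of_tower, LocalizedModule.map_mk]
      refine (LocalizedModule.equivTensorProduct S (Fin k → A)).eq_symm_apply.mp ?_
      rw [LocalizedModule.equivTensorProduct_symm_apply_tmul]
    rw [Polynomial.map_mul, ← hψp, hcp, h' p]
    ring

open IsLocalRing TensorProduct

/-- Over a local ring with a nonzero element killed by the maximal ideal, the cokernel of an injection
of finite free modules is free. -/
theorem free_of_exact {S : Type*} [CommRing S] [IsLocalRing S] {K F M : Type*} [AddCommGroup K] [Module S K]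
    [AddCommGroup F] [Module S F] [AddCommGroup M] [Module S M]
    [Module.Free S K] [Module.Finite S K] [Module.Free S F] [Module.Finite S F]
    (i : K →ₗ[S] F) (g : F →ₗ[S] M) (hi : Function.Injective i) (hg : Function.Surjective g)
    (h : Function.Exact i g) (z : S) (hz : z ≠ 0) (hzm : ∀ r ∈ maximalIdeal S, r * z = 0) :
    Module.Free S M := by
  refine Module.free_of_lTensor_residueField_injective i g hg h ?_
  rw [injective_iff_map_eq_zero]
  intro w hw
  obtain ⟨x, rfl⟩ := TensorProduct.mk_surjective S K (ResidueField S) Ideal.Quotient.mk_surjective w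
  rw [TensorProduct.mk_apply, LinearMap.lTensor_tmul] at hw
  have hmem : i x ∈ maximalIdeal S • (⊤ : Submodule S F) := by
    have h2 := congrArg (TensorProduct.quotTensorEquivQuotSMul F (maximalIdeal S)) hw
    rw [map_zero] at h2
    have e := TensorProduct.quotTensorEquivQuotSMul_mk_tmul (M := F) (maximalIdeal S) 1 (i x)
    rw [one_smul] at e
    exact (Submodule.Quotient.mk_eq_zero _).mp (e.symm.trans h2)
  have hzx : z • i x = 0 := by
    refine Submodule.smul_induction_on hmem (fun r hr q _ => ?_) (fun a b ha hb => by rw [smul_add, ha, hb, add_zero])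
    rw [smul_smul, mul_comm z r, hzm r hr, zero_smul]
  rw [← map_smul, map_eq_zero_iff i hi] at hzx
  let b := Module.Free.chooseBasis S K
  have hc : ∀ j, b.repr x j ∈ maximalIdeal S := fun j hu => hz (by
    have h1 : b.repr (z • x) j = 0 := by rw [hzx, map_zero]; rfl
    rw [map_smul, Finsupp.smul_apply, smul_eq_mul] at h1
    exact hu.mul_left_eq_zero.mp h1)
  have hxm : x ∈ maximalIdeal S • (⊤ : Submodule S K) := by
    rw [← b.linearCombination_repr x, Finsupp.linearCombination_apply]
    exact Submodule.sum_mem _ fun j _ => Submodule.smul_mem_smul (hc j) Submodule.mem_top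
  rw [TensorProduct.mk_apply]
  refine (TensorProduct.quotTensorEquivQuotSMul K (maximalIdeal S)).injective ?_
  rw [map_zero]
  have e := TensorProduct.quotTensorEquivQuotSMul_mk_tmul (M := K) (maximalIdeal S) 1 x
  rw [one_smul] at e
  exact e.trans ((Submodule.Quotient.mk_eq_zero _).mpr hxm)

/-- Modules with a finite free resolution are free at associated primes of the ring. -/
theorem free_localized (p : Ideal A) [p.IsPrime] (z : Localization.AtPrime p) (hz : z ≠ 0)
    (hzm : ∀ r ∈ maximalIdeal (Localization.AtPrime p), r * z = 0) :
    ∀ (n : ℕ) (M : Type u) [AddCommGroup M] [Module A M],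
    FamCyc.HasFiniteFreeResolutionLE A n M →
      Module.Free (Localization.AtPrime p) (LocalizedModule p.primeCompl M)
  | 0, M, _, _, hM => by
    haveI := hM.1
    exact Module.Free.of_equiv (LocalizedModule.equivTensorProduct p.primeCompl M).symm
  | n + 1, M, _, _, hM => by
    obtain ⟨k, f, hf, hK⟩ := hM
    let S := p.primeCompl
    haveI := free_localized p z hz hzm n _ hK
    haveI := finite_of_hasRes A n _ hK
    haveI : Module.Free (Localization.AtPrime p) (LocalizedModule S (Fin k → A)) :=
      Module.Free.of_equiv (LocalizedModule.equivTensorProduct S (Fin k → A)).symm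
    haveI : Module.Finite (Localization.AtPrime p) (LocalizedModule S (Fin k → A)) :=
      Module.Finite.equiv (LocalizedModule.equivTensorProduct S (Fin k → A)).symm
    haveI : Module.Finite (Localization.AtPrime p) (LocalizedModule S (LinearMap.ker f)) :=
      Module.Finite.equiv (LocalizedModule.equivTensorProduct S (LinearMap.ker f)).symm
    exact free_of_exact (S := Localization.AtPrime p) (K := LocalizedModule S (LinearMap.ker f))
      (F := LocalizedModule S (Fin k → A)) (M := LocalizedModule S M)
      (LocalizedModule.map S (LinearMap.ker f).subtype) (LocalizedModule.map S f)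
      (LocalizedModule.map_injective S _ (Submodule.injective_subtype _))
      (LocalizedModule.map_surjective S _ hf)
      (LocalizedModule.map_exact S _ _ (LinearMap.exact_subtype_ker_map f)) z hz hzm

/-- Existence and uniqueness of the determinant. -/
theorem existsUnique_det [IsNoetherianRing A] (M : Type u) [AddCommGroup M] [Module A M] (n : ℕ)
    (hM : FamCyc.HasFiniteFreeResolutionLE A n M) (φ : M →ₗ[A] M) :
    ∃! a : A, ∀ (p : Ideal A) [p.IsPrime],
      Module.Free (Localization.AtPrime p) (LocalizedModule p.primeCompl M) →
        algebraMap A (Localization.AtPrime p) a =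
          LinearMap.det (LocalizedModule.map p.primeCompl φ) := by
  haveI := finite_of_hasRes A n M hM
  obtain ⟨N, D, hN, hD, h⟩ := exists_pair A n M hM φ
  let a : A := (-1) ^ (N.natDegree - D.natDegree) * (N /ₘ D).coeff 0
  have ha : ∀ (p : Ideal A) [p.IsPrime],
      Module.Free (Localization.AtPrime p) (LocalizedModule p.primeCompl M) →
        algebraMap A (Localization.AtPrime p) a = LinearMap.det (LocalizedModule.map p.primeCompl φ) := by
    intro p _ hfree
    haveI : Module.Finite (Localization.AtPrime p) (LocalizedModule p.primeCompl M) :=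
      Module.Finite.equiv (LocalizedModule.equivTensorProduct p.primeCompl M).symm
    have hp := h p
    set χ := (LocalizedModule.map p.primeCompl φ).charpoly with hχ
    have hdeg : N.natDegree - D.natDegree = χ.natDegree := by
      have h1 := congrArg Polynomial.natDegree hp
      rw [hN.natDegree_map, (hD.map _).natDegree_mul (LinearMap.charpoly_monic _), hD.natDegree_map] at h1
      rw [h1]; exact Nat.add_sub_cancel_left _ _
    have hq : (N /ₘ D).map (algebraMap A (Localization.AtPrime p)) = χ := by
      rw [Polynomial.map_divByMonic _ hD, hp]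
      exact Polynomial.mul_divByMonic_cancel_left χ (hD.map _)
    rw [LinearMap.det_eq_sign_charpoly_coeff, ← hχ]
    show algebraMap A _ ((-1) ^ (N.natDegree - D.natDegree) * (N /ₘ D).coeff 0) = _
    rw [map_mul, map_pow, map_neg, map_one, hdeg, ← Polynomial.coeff_map, hq, LinearMap.charpoly_natDegree]
  refine ⟨a, ha, fun b hb => ?_⟩
  by_contra hne
  obtain ⟨P, hP, hle⟩ := exists_le_isAssociatedPrime_of_isNoetherianRing A (b - a) (sub_ne_zero.mpr hne)
  obtain ⟨hPp, y, hy⟩ := isAssociatedPrime_iff.mp hP
  haveI := hPp
  have hmemP : ∀ r, r ∈ P ↔ r * y = 0 := fun r => by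
    rw [hy, Submodule.mem_colon_singleton, smul_eq_mul, Submodule.mem_bot]
  have hz : algebraMap A (Localization.AtPrime P) y ≠ 0 := fun h0 => by
    obtain ⟨⟨t, ht⟩, htz⟩ := (IsLocalization.map_eq_zero_iff P.primeCompl _ y).mp h0
    exact ht ((hmemP t).mpr htz)
  have hzm : ∀ r ∈ maximalIdeal (Localization.AtPrime P), r * algebraMap A _ y = 0 := by
    intro r hr
    obtain ⟨r', s, rfl⟩ := IsLocalization.exists_mk'_eq P.primeCompl r
    rw [IsLocalization.AtPrime.mk'_mem_maximal_iff (Localization.AtPrime P) P] at hr
    rw [mul_comm, IsLocalization.mul_mk'_eq_mk'_of_mul, mul_comm, (hmemP r').mp hr, IsLocalization.mk'_zero]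
  have hfree := free_localized A P _ hz hzm n M hM
  have h0 : algebraMap A (Localization.AtPrime P) (b - a) = 0 := by
    rw [map_sub, hb P hfree, ha P hfree, sub_self]
  obtain ⟨⟨t, ht⟩, htz⟩ := (IsLocalization.map_eq_zero_iff P.primeCompl _ (b - a)).mp h0
  exact ht (hle (by rw [Submodule.mem_colon_singleton, smul_eq_mul, Submodule.mem_bot]; exact htz))

end Groth.Agent.FamCycDet
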